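import Groth.Prelude.Def_CycAlg
import Mathlib

/-! Common factors in finite extensions of one-dimensional local rings. -/

set_option autoImplicit false
set_option linter.style.haveILetI false
open scoped Pointwise

universe u

namespace Groth.Agent.CommonFactor

variable {R : Type u} [CommRing R] [IsNoetherianRing R] [IsLocalRing R]

open IsLocalRing

theorem length_quot_mul (I : Ideal R) {a : R} (ha : a ∈ nonZeroDivisors R) :
    Module.length R (R ⧸ Ideal.span {a} * I) =
      Module.length R (R ⧸ I) + Module.length R (R ⧸ Ideal.span {a}) := by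
  let f : (R ⧸ I) →ₗ[R] (R ⧸ Ideal.span {a} * I) := Submodule.mapQ I (Ideal.span {a} * I)
    (LinearMap.mulLeft R a) fun x hx => Ideal.mul_mem_mul (Ideal.mem_span_singleton_self a) hx
  let g : (R ⧸ Ideal.span {a} * I) →ₗ[R] (R ⧸ Ideal.span {a}) :=
    Submodule.factor Ideal.mul_le_left
  refine Module.length_eq_add_of_exact f g ?_ (Submodule.factor_surjective _) ?_
  · rw [injective_iff_map_eq_zero]
    intro x hx
    obtain ⟨x, rfl⟩ := Submodule.Quotient.mk_surjective _ x
    rw [Submodule.mapQ_apply, Submodule.Quotient.mk_eq_zero, LinearMap.mulLeft_apply] at hx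
    obtain ⟨y, hy, hxy⟩ := Ideal.mem_span_singleton_mul.1 hx
    rw [Submodule.Quotient.mk_eq_zero, ← (mul_cancel_left_mem_nonZeroDivisors ha).1 hxy]
    exact hy
  · intro x
    obtain ⟨x, rfl⟩ := Submodule.Quotient.mk_surjective _ x
    constructor
    · intro hx
      rw [show g (Submodule.Quotient.mk x) = Submodule.Quotient.mk x from rfl,
        Submodule.Quotient.mk_eq_zero, Ideal.mem_span_singleton'] at hx
      obtain ⟨y, rfl⟩ := hx
      exact ⟨Submodule.Quotient.mk y, by
        rw [Submodule.mapQ_apply, LinearMap.mulLeft_apply, mul_comm a y]⟩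
    · rintro ⟨y, hy⟩
      obtain ⟨y, rfl⟩ := Submodule.Quotient.mk_surjective _ y
      rw [← hy, Submodule.mapQ_apply, show g (Submodule.Quotient.mk _) = Submodule.Quotient.mk _ from rfl,
        Submodule.Quotient.mk_eq_zero]
      exact Ideal.mul_mem_right _ _ (Ideal.mem_span_singleton_self a)

/-- some form relation with a unit coefficient -/
theorem exists_form (hR : ringKrullDim R = 1) (a b : R) (ha : a ∈ nonZeroDivisors R)
    (ham : a ∈ maximalIdeal R) :
    ∃ (n : ℕ) (c : ℕ → R), 0 < n ∧ ∑ i ∈ Finset.range (n + 1), c i * (a ^ i * b ^ (n - i)) = 0 ∧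
      ∃ i ≤ n, IsUnit (c i) := by
  classical
  haveI : Ring.KrullDimLE 1 R := Ring.krullDimLE_iff.2 hR.le
  have hfin : IsFiniteLength R (R ⧸ Ideal.span {a}) := isFiniteLength_quotient_span_singleton R ha
  obtain ⟨L, hL⟩ := ENat.ne_top_iff_exists.1 (Module.length_ne_top_iff.2 hfin)
  set n := L + 1 with hn
  refine ⟨n, ?_⟩
  let g : Fin (n + 1) → R := fun i => a ^ (i : ℕ) * b ^ (n - i)
  set I := Ideal.span (Set.range g) with hI
  by_contra hcon
  push Not at hcon
  have hdep : ∀ c : Fin (n + 1) → R, ∑ i, c i * g i = 0 → ∀ i, c i ∈ maximalIdeal R := by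
    intro c hc i
    by_contra hi
    rw [IsLocalRing.mem_maximalIdeal, mem_nonunits_iff, not_not] at hi
    refine hcon (fun j => if hj : j < n + 1 then c ⟨j, hj⟩ else 0) (Nat.succ_pos L) ?_ i (by omega)
      (show IsUnit (if hj : (i : ℕ) < n + 1 then c ⟨i, hj⟩ else 0) by rw [dif_pos i.2]; exact hi)
    rw [← hc, Finset.sum_range]
    exact Finset.sum_congr rfl fun j _ => by rw [dif_pos j.2]
  -- coefficients of members of `I` are well defined mod `m`
  let φ : (Fin (n + 1) → R) →ₗ[R] R := Fintype.linearCombination R g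
  have hφ : LinearMap.range φ = I := Fintype.range_linearCombination R g
  let π : (Fin (n + 1) → R) →ₗ[R] (Fin (n + 1) → ResidueField R) :=
    LinearMap.pi fun i => (Algebra.linearMap R (ResidueField R)) ∘ₗ LinearMap.proj i
  have hπs : Function.Surjective π := fun z => by
    choose y hy using fun i => IsLocalRing.residue_surjective (z i)
    exact ⟨y, funext hy⟩
  -- length computation
  have key : (n + 1 : ℕ∞) + Module.length R (R ⧸ I) ≤ Module.length R (R ⧸ Ideal.span {a} * I) := by
    let f : (LinearMap.range φ) →ₗ[R] (R ⧸ Ideal.span {a} * I) :=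
      (Ideal.span {a} * I).mkQ ∘ₗ (LinearMap.range φ).subtype
    have hex : Module.length R (R ⧸ Ideal.span {a} * I) =
        Module.length R (LinearMap.range f) + Module.length R (R ⧸ I) := by
      refine Module.length_eq_add_of_exact (LinearMap.range f).subtype
        (Submodule.factor Ideal.mul_le_right) Subtype.val_injective (Submodule.factor_surjective _) ?_
      intro x
      obtain ⟨x, rfl⟩ := Submodule.Quotient.mk_surjective _ x
      constructor
      · intro hx
        rw [show (Submodule.factor Ideal.mul_le_right) (Submodule.Quotient.mk x) =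
          Submodule.Quotient.mk x from rfl, Submodule.Quotient.mk_eq_zero, ← hφ] at hx
        exact ⟨⟨_, LinearMap.mem_range.2 ⟨⟨x, hx⟩, rfl⟩⟩, rfl⟩
      · rintro ⟨⟨y, hy⟩, hyx⟩
        obtain ⟨⟨z, hz⟩, rfl⟩ := LinearMap.mem_range.1 hy
        rw [← hyx]
        show (Submodule.factor Ideal.mul_le_right) (Submodule.Quotient.mk z) = 0
        rw [show (Submodule.factor Ideal.mul_le_right) (Submodule.Quotient.mk z) =
          Submodule.Quotient.mk z from rfl, Submodule.Quotient.mk_eq_zero]
        exact hφ ▸ hz
    rw [hex]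
    refine add_le_add ?_ le_rfl
    -- `range f` surjects onto `κ^(n+1)`
    let F : (Fin (n + 1) → R) →ₗ[R] LinearMap.range f :=
      f.rangeRestrict ∘ₗ φ.rangeRestrict
    have hF : Function.Surjective F :=
      (LinearMap.surjective_rangeRestrict f).comp (LinearMap.surjective_rangeRestrict φ)
    have hker : LinearMap.ker F ≤ LinearMap.ker π := by
      intro c hc
      have hc' : φ c ∈ Ideal.span {a} * I :=
        (Submodule.Quotient.mk_eq_zero _).1 (congrArg Subtype.val (LinearMap.mem_ker.1 hc))
      obtain ⟨y, hy, hyc⟩ := Ideal.mem_span_singleton_mul.1 hc'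
      rw [← hφ] at hy
      obtain ⟨d, rfl⟩ := hy
      have h0 : φ (c - a • d) = 0 := by rw [map_sub, map_smul, smul_eq_mul, hyc, sub_self]
      have hm := hdep (c - a • d) (by rw [← h0, Fintype.linearCombination_apply]; rfl)
      refine LinearMap.mem_ker.2 (funext fun i => ?_)
      show residue R (c i) = 0
      rw [IsLocalRing.residue_eq_zero_iff]
      have := add_mem (hm i) (Ideal.mul_mem_right (d i) (maximalIdeal R) ham)
      simpa using this
    let G : LinearMap.range f →ₗ[R] (Fin (n + 1) → ResidueField R) :=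
      ((LinearMap.ker F).liftQ π hker) ∘ₗ (F.quotKerEquivOfSurjective hF).symm.toLinearMap
    have hG : Function.Surjective G := by
      intro z
      obtain ⟨y, rfl⟩ := hπs z
      refine ⟨F.quotKerEquivOfSurjective hF (Submodule.Quotient.mk y), ?_⟩
      simp only [G, LinearMap.comp_apply, LinearEquiv.coe_coe, LinearEquiv.symm_apply_apply,
        Submodule.liftQ_apply]
    refine le_trans ?_ (Module.length_le_of_surjective G hG)
    rw [Module.length_pi_of_fintype, Finset.sum_const, Finset.card_univ, Fintype.card_fin]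
    haveI : IsSimpleModule R (ResidueField R) :=
      (isSimpleModule_iff_isCoatom.2 (Ideal.isMaximal_def.1 inferInstance) :
        IsSimpleModule R (R ⧸ maximalIdeal R))
    rw [Module.length_eq_one, nsmul_one]
    norm_cast
  rw [length_quot_mul I ha, ← hL, add_comm (Module.length R (R ⧸ I))] at key
  have hIfin : Module.length R (R ⧸ I) ≠ ⊤ := by
    refine ne_top_of_le_ne_top (Module.length_ne_top_iff.2
      (isFiniteLength_quotient_span_singleton R (pow_mem ha n))) ?_
    refine Module.length_le_of_surjective (Submodule.factor ?_) (Submodule.factor_surjective _)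
    rw [Ideal.span_singleton_le_iff_mem]
    exact Ideal.subset_span ⟨Fin.last n, by simp [g]⟩
  rw [ENat.add_le_add_iff_right hIfin] at key
  norm_cast at key
  omega

theorem finite_maximalSpectrum (R' : Type u) [CommRing R'] [Algebra R R'] [Module.Finite R R'] :
    Finite (MaximalSpectrum R') := by
  let mR := (maximalIdeal R).map (algebraMap R R')
  haveI : Module.Finite (R ⧸ maximalIdeal R) (R' ⧸ mR) :=
    Module.Finite.of_restrictScalars_finite R _ _
  let : Field (R ⧸ maximalIdeal R) := Ideal.Quotient.field _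
  haveI : IsArtinianRing (R' ⧸ mR) := IsArtinianRing.of_finite (R ⧸ maximalIdeal R) _
  have hle : ∀ M : MaximalSpectrum R', mR ≤ M.asIdeal := fun M => by
    rw [Ideal.map_le_iff_le_comap]
    haveI := M.isMaximal
    haveI : (M.asIdeal.comap (algebraMap R R')).IsMaximal :=
      Ideal.isMaximal_comap_of_isIntegral_of_isMaximal M.asIdeal
    rw [IsLocalRing.eq_maximalIdeal (I := M.asIdeal.comap (algebraMap R R')) inferInstance]
  have hcm : ∀ M : MaximalSpectrum R',
      Ideal.comap (Ideal.Quotient.mk mR) (M.asIdeal.map (Ideal.Quotient.mk mR)) = M.asIdeal := fun M => by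
    rw [Ideal.comap_map_of_surjective (Ideal.Quotient.mk mR) Ideal.Quotient.mk_surjective,
      ← RingHom.ker_eq_comap_bot, Ideal.mk_ker, sup_of_le_left (hle M)]
  have hmax : ∀ M : MaximalSpectrum R', (M.asIdeal.map (Ideal.Quotient.mk mR)).IsMaximal := fun M =>
    (Ideal.map_eq_top_or_isMaximal_of_surjective _ Ideal.Quotient.mk_surjective M.isMaximal).resolve_left
      fun h => M.isMaximal.ne_top (by rw [← hcm M, h, Ideal.comap_top])
  refine Finite.of_injective (fun M => (⟨_, hmax M⟩ : MaximalSpectrum (R' ⧸ mR))) fun M M' h => ?_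
  apply MaximalSpectrum.ext
  rw [← hcm M, ← hcm M']
  exact congrArg (fun x => Ideal.comap (Ideal.Quotient.mk mR) (MaximalSpectrum.asIdeal x)) h

theorem exists_isFinExt (hR : ringKrullDim R = 1) (a b : R)
    (ha : a ∈ nonZeroDivisors R) (hb : b ∈ nonZeroDivisors R) (ham : a ∈ maximalIdeal R) :
    ∃ (R' : Type u) (_ : CommRing R') (_ : Algebra R R'), CycAlg.IsFinExt R R' (maximalIdeal R) ∧
      ∃ t a' b' : R', t ∈ nonZeroDivisors R' ∧ a' ∈ nonZeroDivisors R' ∧ b' ∈ nonZeroDivisors R' ∧
        algebraMap R R' a = t * a' ∧ algebraMap R R' b = t * b' ∧ Ideal.span {a', b'} = ⊤ := by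
  classical
  obtain ⟨n, c, hn, hc, i₀, hi₀, hunit⟩ := exists_form hR a b ha ham
  haveI : Ring.KrullDimLE 1 R := Ring.krullDimLE_iff.2 hR.le
  let Q := FractionRing R
  have hinj : Function.Injective (algebraMap R Q) := IsFractionRing.injective R Q
  obtain ⟨bu, hbu⟩ := IsLocalization.map_units Q (⟨b, hb⟩ : nonZeroDivisors R)
  obtain ⟨au, hau⟩ := IsLocalization.map_units Q (⟨a, ha⟩ : nonZeroDivisors R)
  let z : Q := algebraMap R Q a * ↑bu⁻¹
  have hzb : z * algebraMap R Q b = algebraMap R Q a := by
    show algebraMap R Q a * ↑bu⁻¹ * algebraMap R Q b = _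
    rw [← hbu, mul_assoc, Units.inv_mul, mul_one]
  let C : ℕ → Q := fun i => algebraMap R Q (c i)
  have hFz : ∑ i ∈ Finset.range (n + 1), C i * z ^ i = 0 := by
    have h1 : (algebraMap R Q b) ^ n * ∑ i ∈ Finset.range (n + 1), C i * z ^ i = 0 := by
      rw [← map_zero (algebraMap R Q), ← hc, map_sum, Finset.mul_sum]
      refine Finset.sum_congr rfl fun i hi => ?_
      simp only [C, map_mul, map_pow]
      rw [← hzb, mul_pow, ← Nat.add_sub_of_le (Nat.lt_succ_iff.1 (Finset.mem_range.1 hi)), pow_add]
      rw [Nat.add_sub_cancel_left]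
      ring
    rwa [← hbu, ← Units.val_pow_eq_pow_val, Units.mul_right_eq_zero] at h1
  -- `u j`, `v j = z * u j`
  let u : ℕ → Q := fun j => ∑ i ∈ Finset.Ico (n - j) (n + 1), C i * z ^ (i - (n - j))
  let N : Submodule R Q := Submodule.span R ((fun i => z ^ i) '' Set.Iio n)
  have hN1 : (1 : Q) ∈ N := Submodule.subset_span ⟨0, hn, pow_zero z⟩
  let R' : Subalgebra R Q :=
    { carrier := {x | ∀ y ∈ N, x * y ∈ N}
      mul_mem' := fun {x y} hx hy w hw => by rw [mul_assoc]; exact hx _ (hy w hw)
      add_mem' := fun {x y} hx hy w hw => by rw [add_mul]; exact add_mem (hx w hw) (hy w hw)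
      algebraMap_mem' := fun r w hw => by rw [← Algebra.smul_def]; exact N.smul_mem r hw }
  have hNfg : N.FG := Submodule.fg_span ((Set.finite_Iio n).image _)
  haveI : Module.Finite R N := Module.Finite.iff_fg.2 hNfg
  haveI : Module.Finite R R' := by
    refine Module.Finite.of_injective (LinearMap.codRestrict N R'.val.toLinearMap fun x => ?_) ?_
    · simpa using x.2 1 hN1
    · intro x y h
      have h1 := congrArg Subtype.val h
      exact Subtype.ext h1
  have hv : ∀ j < n, z * u j ∈ R' := by
    intro j hj y hy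
    induction hy using Submodule.span_induction with
    | zero => rw [mul_zero]; exact N.zero_mem
    | add x y _ _ hx hy => rw [mul_add]; exact add_mem hx hy
    | smul r x _ hx => rw [mul_smul_comm]; exact N.smul_mem r hx
    | mem x hx =>
      obtain ⟨i, hi, rfl⟩ := hx
      have hi : i < n := hi
      have hmem : ∀ (m : ℕ) (r : R), m < n → algebraMap R Q r * z ^ m ∈ N := fun m r hm => by
        rw [← Algebra.smul_def]; exact N.smul_mem r (Submodule.subset_span ⟨m, hm, rfl⟩)
      by_cases hle : i + 1 + j < n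
      · show z * (∑ l ∈ _, _) * z ^ i ∈ N
        rw [Finset.mul_sum, Finset.sum_mul]
        refine Submodule.sum_mem _ fun l hl => ?_
        rw [Finset.mem_Ico] at hl
        rw [show z * (C l * z ^ (l - (n - j))) * z ^ i = C l * z ^ (l - (n - j) + i + 1) by ring]
        exact hmem _ _ (by omega)
      · have hsplit : z ^ (n - j) * u j = - ∑ l ∈ Finset.range (n - j), C l * z ^ l := by
          rw [eq_neg_iff_add_eq_zero, add_comm, ← hFz,
            ← Finset.sum_range_add_sum_Ico _ (show n - j ≤ n + 1 by omega)]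
          congr 1
          show z ^ (n - j) * (∑ l ∈ _, _) = _
          rw [Finset.mul_sum]
          refine Finset.sum_congr rfl fun l hl => ?_
          rw [Finset.mem_Ico] at hl
          rw [mul_left_comm, ← pow_add, Nat.add_sub_cancel' hl.1]
        obtain ⟨d, hd⟩ : ∃ d, i + 1 = n - j + d := ⟨i + 1 - (n - j), by omega⟩
        rw [show z * u j * z ^ i = z ^ d * (z ^ (n - j) * u j) by
          rw [mul_comm z (u j), mul_assoc, ← pow_succ', hd, pow_add]; ring,
          hsplit, mul_neg, Finset.mul_sum]
        refine neg_mem (Submodule.sum_mem _ fun l hl => ?_)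
        rw [mul_left_comm, ← pow_add]
        exact hmem _ _ (by rw [Finset.mem_range] at hl; omega)
  have hu_succ : ∀ j < n, u (j + 1) = z * u j + C (n - (j + 1)) := by
    intro j hj
    simp only [u]
    rw [Finset.sum_eq_sum_Ico_succ_bot (show n - (j + 1) < n + 1 by omega), Nat.sub_self, pow_zero,
      mul_one, add_comm, show n - (j + 1) + 1 = n - j by omega, Finset.mul_sum]
    congr 1
    refine Finset.sum_congr rfl fun l hl => ?_
    rw [Finset.mem_Ico] at hl
    rw [show l - (n - (j + 1)) = (l - (n - j)) + 1 by omega]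
    ring
  have hu0 : u 0 = C n := by simp [u]
  have hu : ∀ j ≤ n, u j ∈ R' := by
    intro j hj
    cases j with
    | zero => rw [hu0]; exact R'.algebraMap_mem _
    | succ j => rw [hu_succ j (by omega)]; exact add_mem (hv j (by omega)) (R'.algebraMap_mem _)
  have hun : u n = 0 := by
    simp only [u, Nat.sub_self, Nat.sub_zero, ← Finset.range_eq_Ico]
    exact hFz
  -- the comparison ideals
  let U : Fin n → R' := fun j => ⟨u j, hu j j.2.le⟩
  let V : Fin n → R' := fun j => ⟨z * u j, hv j j.2⟩
  let J : Ideal R' := Ideal.span (Set.range U ∪ Set.range V)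
  have hJ : J = ⊤ := by
    rw [Ideal.eq_top_iff_one]
    have hC : ∀ i ≤ n, algebraMap R R' (c i) ∈ J := by
      intro i hi
      rcases Nat.eq_or_lt_of_le hi with h | h
      · subst h
        have : algebraMap R R' (c i) = U ⟨0, hn⟩ := Subtype.ext (hu0.symm)
        rw [this]; exact Ideal.subset_span (Or.inl ⟨_, rfl⟩)
      · let j : Fin n := ⟨n - i - 1, by omega⟩
        have e : algebraMap R R' (c i) =
            (if hj : (j : ℕ) + 1 < n then U ⟨j + 1, hj⟩ else 0) - V j := by
          apply Subtype.ext
          have h1 := hu_succ j j.2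
          have h2 : n - ((j : ℕ) + 1) = i := by simp only [j]; omega
          rw [h2] at h1
          split_ifs with hj
          · show C i = u (j + 1) - z * u j
            rw [h1]; ring
          · show C i = 0 - z * u j
            rw [show (j : ℕ) + 1 = n by omega, hun] at h1
            linear_combination -h1
        rw [e]
        refine sub_mem ?_ (Ideal.subset_span (Or.inr ⟨_, rfl⟩))
        split_ifs
        · exact Ideal.subset_span (Or.inl ⟨_, rfl⟩)
        · exact zero_mem _
    have := hC i₀ hi₀
    exact (Ideal.eq_top_iff_one _).1 (Ideal.eq_top_of_isUnit_mem _ this (hunit.map _))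
  let A := algebraMap R R' a
  let B := algebraMap R R' b
  have hAB : ∀ j, A * U j = B * V j := fun j => Subtype.ext (by
    show algebraMap R Q a * u j = algebraMap R Q b * (z * u j)
    rw [← mul_assoc, mul_comm (algebraMap R Q b), hzb])
  -- semilocal
  haveI : Finite (MaximalSpectrum R') := finite_maximalSpectrum (R := R) R'
  haveI : Fintype (MaximalSpectrum R') := Fintype.ofFinite _
  obtain ⟨q, hq⟩ := Ideal.exists_forall_sub_mem_ideal (ι := MaximalSpectrum R')
    (I := fun M => M.asIdeal) (fun M M' hne => by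
      haveI := M.isMaximal
      haveI := M'.isMaximal
      exact Ideal.isCoprime_of_isMaximal fun h => hne (MaximalSpectrum.ext h))
    (fun M => if ∃ j, U j ∉ M.asIdeal then 1 else 0)
  let t : R' := (1 - q) * A + q * B
  have htA : A ∈ Ideal.span {t} ∧ B ∈ Ideal.span {t} := by
    suffices h : ∀ M : MaximalSpectrum R', ∃ s ∉ M.asIdeal, s * A ∈ Ideal.span {t} ∧ s * B ∈ Ideal.span {t} by
      let K : Ideal R' := (Submodule.colon (Ideal.span {t}) ({A} : Set R')) ⊓
        (Submodule.colon (Ideal.span {t}) ({B} : Set R'))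
      have hK : K = ⊤ := by
        by_contra hK
        obtain ⟨M, hM, hle⟩ := Ideal.exists_le_maximal K hK
        obtain ⟨s, hs, h1, h2⟩ := h ⟨M, hM⟩
        refine hs (hle ⟨?_, ?_⟩)
        · exact Submodule.mem_colon_singleton.2 h1
        · exact Submodule.mem_colon_singleton.2 h2
      have h1 : (1 : R') ∈ K := hK ▸ Submodule.mem_top
      exact ⟨by simpa [Submodule.mem_colon_singleton] using h1.1,
        by simpa [Submodule.mem_colon_singleton] using h1.2⟩
    intro M
    haveI := M.isMaximal
    have hqM := hq M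
    by_cases hU : ∃ j, U j ∉ M.asIdeal
    · rw [if_pos hU] at hqM
      obtain ⟨j, hj⟩ := hU
      set w := (1 - q) * V j + q * U j with hw
      have hwM : w ∉ M.asIdeal := fun h => hj (by
        have h1 : (1 - q) * (V j - U j) ∈ M.asIdeal :=
          M.asIdeal.mul_mem_right _ (by simpa using M.asIdeal.neg_mem hqM)
        have := M.asIdeal.sub_mem h h1
        rwa [show w - (1 - q) * (V j - U j) = U j by rw [hw]; ring] at this)
      have e : U j * t = w * B := by
        rw [hw]; linear_combination (1 - q) * hAB j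
      refine ⟨w * U j, fun h => (M.isMaximal.isPrime.mem_or_mem h).elim hwM hj, ?_, ?_⟩
      · rw [mul_assoc, mul_comm (U j) A, hAB j,
          show w * (B * V j) = (V j * U j) * t by rw [mul_assoc (V j), e]; ring]
        exact Ideal.mul_mem_left _ _ (Ideal.mem_span_singleton_self t)
      · rw [mul_right_comm, ← e, show U j * t * U j = (U j * U j) * t by ring]
        exact Ideal.mul_mem_left _ _ (Ideal.mem_span_singleton_self t)
    · rw [if_neg hU] at hqM
      push Not at hU
      obtain ⟨j, hj⟩ : ∃ j, V j ∉ M.asIdeal := by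
        by_contra hV
        push Not at hV
        refine M.isMaximal.ne_top (top_le_iff.1 (hJ ▸ Ideal.span_le.2 ?_))
        rintro x (⟨j, rfl⟩ | ⟨j, rfl⟩)
        exacts [hU j, hV j]
      set w := (1 - q) * V j + q * U j with hw
      have hwM : w ∉ M.asIdeal := fun h => hj (by
        have h1 : q * (U j - V j) ∈ M.asIdeal := M.asIdeal.mul_mem_right _ (by simpa using hqM)
        have := M.asIdeal.sub_mem h h1
        rwa [show w - q * (U j - V j) = V j by rw [hw]; ring] at this)
      have e : V j * t = w * A := by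
        rw [hw]; linear_combination -q * hAB j
      refine ⟨w * V j, fun h => (M.isMaximal.isPrime.mem_or_mem h).elim hwM hj, ?_, ?_⟩
      · rw [mul_right_comm, ← e, show V j * t * V j = (V j * V j) * t by ring]
        exact Ideal.mul_mem_left _ _ (Ideal.mem_span_singleton_self t)
      · rw [mul_assoc, mul_comm (V j) B, ← hAB j,
          show w * (A * U j) = (U j * V j) * t by rw [mul_assoc (U j), e]; ring]
        exact Ideal.mul_mem_left _ _ (Ideal.mem_span_singleton_self t)
  obtain ⟨a', ha'⟩ := Ideal.mem_span_singleton'.1 htA.1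
  obtain ⟨b', hb'⟩ := Ideal.mem_span_singleton'.1 htA.2
  have hreg : ∀ x : R', IsUnit (x : Q) → x ∈ nonZeroDivisors R' := fun x hx => by
    rw [mem_nonZeroDivisors_iff_right]
    intro y hy
    apply Subtype.ext
    have : (y : Q) * x = 0 := congrArg Subtype.val hy
    exact hx.mul_left_eq_zero.1 this
  have hAu : IsUnit ((A : R') : Q) := ⟨au, hau⟩
  have hBu : IsUnit ((B : R') : Q) := ⟨bu, hbu⟩
  have e1 : IsUnit ((a' : Q) * (t : Q)) := by
    rw [show (a' : Q) * (t : Q) = ((a' * t : R') : Q) from rfl, ha']; exact hAu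
  have e2 : IsUnit ((b' : Q) * (t : Q)) := by
    rw [show (b' : Q) * (t : Q) = ((b' * t : R') : Q) from rfl, hb']; exact hBu
  refine ⟨R', inferInstance, inferInstance, ⟨?_, inferInstance, ?_⟩, t, a', b',
    hreg t (isUnit_of_mul_isUnit_right e1), hreg a' (isUnit_of_mul_isUnit_left e1),
    hreg b' (isUnit_of_mul_isUnit_left e2), by rw [mul_comm]; exact ha'.symm,
    by rw [mul_comm]; exact hb'.symm, ?_⟩
  · exact fun x y h => hinj (congrArg Subtype.val h)
  · obtain ⟨S, hS⟩ := (Module.Finite.fg_top : (⊤ : Submodule R R').FG)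
    obtain ⟨s, hs⟩ := IsLocalization.exist_integer_multiples (nonZeroDivisors R) S (fun x => (x : Q))
    have hsr : ∀ x : R', (s : R) • x ∈ (algebraMap R R').range := by
      intro x
      have hx : x ∈ Submodule.span R (S : Set R') := hS ▸ Submodule.mem_top
      induction hx using Submodule.span_induction with
      | zero => rw [smul_zero]; exact zero_mem _
      | add p q _ _ hp hq => rw [smul_add]; exact add_mem hp hq
      | smul r p _ hp =>
        rw [smul_comm, Algebra.smul_def]
        exact mul_mem ⟨r, rfl⟩ hp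
      | mem p hp =>
        obtain ⟨r, hr⟩ := hs p hp
        exact ⟨r, Subtype.ext hr⟩
    obtain ⟨k, hk⟩ : ∃ k, maximalIdeal R ^ k ≤ Ideal.span {(s : R)} := by
      haveI hl : IsFiniteLength R (R ⧸ Ideal.span {(s : R)}) :=
        isFiniteLength_quotient_span_singleton R s.2
      refine Ideal.exists_pow_le_of_le_radical_of_fg ?_ (IsNoetherian.noetherian _)
      rw [Ideal.radical_eq_sInf]
      refine le_sInf fun P ⟨hP, hPp⟩ => ?_
      haveI := hPp
      haveI : Ring.KrullDimLE 1 R := Ring.krullDimLE_iff.2 hR.le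
      have hne : P ∉ (⊥ : Ideal R).minimalPrimes := fun h =>
        Set.disjoint_left.mp (Ideal.disjoint_nonZeroDivisors_of_mem_minimalPrimes h)
          (hP (Ideal.mem_span_singleton_self _)) s.2
      rcases Ring.krullDimLE_one_iff.1 inferInstance P hPp with h | h
      · exact absurd h hne
      · exact (IsLocalRing.eq_maximalIdeal h).ge
    refine ⟨k, fun r hr x => ?_⟩
    obtain ⟨y, rfl⟩ := Ideal.mem_span_singleton'.1 (hk hr)
    rw [mul_smul, Algebra.smul_def]
    exact mul_mem ⟨y, rfl⟩ (hsr x)
  · rw [Ideal.eq_top_iff_one, Ideal.mem_span_pair]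
    refine ⟨1 - q, q, ?_⟩
    have ht : t ∈ nonZeroDivisors R' := hreg t (isUnit_of_mul_isUnit_right e1)
    refine (mul_cancel_right_mem_nonZeroDivisors ht).1 ?_
    linear_combination (1 - q) * ha' + q * hb'

theorem main (hR : ringKrullDim R = 1) (a b : R)
    (ha : a ∈ nonZeroDivisors R) (hb : b ∈ nonZeroDivisors R) :
    ∃ (R' : Type u) (_ : CommRing R') (_ : Algebra R R'), CycAlg.IsFinExt R R' (maximalIdeal R) ∧
      ∃ t a' b' : R', t ∈ nonZeroDivisors R' ∧ a' ∈ nonZeroDivisors R' ∧ b' ∈ nonZeroDivisors R' ∧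
        algebraMap R R' a = t * a' ∧ algebraMap R R' b = t * b' ∧ Ideal.span {a', b'} = ⊤ := by
  by_cases ham : a ∈ maximalIdeal R
  · exact exists_isFinExt hR a b ha hb ham
  · rw [IsLocalRing.mem_maximalIdeal, mem_nonunits_iff, not_not] at ham
    refine ⟨R, inferInstance, inferInstance, ⟨fun x y h => h, inferInstance, 0,
      fun r _ x => ⟨r * x, rfl⟩⟩, 1, a, b, one_mem _, ha, hb, by simp, by simp, ?_⟩
    exact Ideal.eq_top_of_isUnit_mem _ (Ideal.subset_span (Set.mem_insert a _)) ham

end Groth.Agent.CommonFactor
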